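import Groth.Agent.ProEtColim13.Objects
import Groth.Agent.EtFound.CechInjGen
import Groth.Agent.EtFound.CechSurjGen
import Groth.Agent.SiteBase.AbSecExact
import Groth.Agent.EtLC12.ExtColimGen
import Mathlib.CategoryTheory.Sites.SheafCohomology.Basic

/-!
# Cartan's criterion on qcqs objects of the pro-étale site and filtered colimits of cohomology
-/

set_option autoImplicit false
set_option backward.isDefEq.respectTransparency false
set_option backward.isDefEq.respectTransparency.types false
set_option linter.style.haveILetI false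

noncomputable section

universe u

open CategoryTheory CategoryTheory.Limits AlgebraicGeometry Opposite Abelian MorphismProperty

namespace Groth.Agent.ProEtColim13

/-- the final object -/
def topPIsTerminal (X : Scheme.{u}) : IsTerminal (ProEtS.topP X) :=
  IsTerminal.ofUniqueHom (fun U => MorphismProperty.Over.homMk U.hom (Category.comp_id _))
    fun U m => MorphismProperty.Over.Hom.ext ((Category.comp_id _).symm.trans (MorphismProperty.Over.w m))

variable {X : Scheme.{u}}

/-- No higher Čech cohomology for finite families of qcqs objects. -/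
def IsCechAcyclic (G : ProEtS.AbP X) : Prop :=
  ∀ (U : X.ProEt) [HasFiniteProducts (Over U)] (ι : Type (u + 1)) [Finite ι] (Uf : ι → Over U),
    IsQcqsObj U → (∀ i, IsQcqsObj (Uf i).left) → ∀ p, IsZero (EtCech.cechH Uf G.obj (p + 1))

theorem isCechAcyclic_of_injective (G : ProEtS.AbP X) [Injective G] : IsCechAcyclic G := by
  intro U _ ι _ Uf _ _ p
  haveI : LocallySmall.{u + 1} X.ProEt := ⟨fun _ _ => inferInstance⟩
  haveI : Injective G.obj :=
    Injective.injective_of_adjoint (sheafificationAdjunction (Scheme.ProEt.topology X) AddCommGrpCat.{u + 1}) G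
  exact EtFound.CechInjGen.isZero_cechH_injective Uf G.obj p

theorem isCechAcyclic_colimit {Λ : Type (u + 1)} [SmallCategory Λ] [IsFiltered Λ]
    (D : Λ ⥤ ProEtS.AbP X) (h : ∀ j, IsCechAcyclic (D.obj j)) : IsCechAcyclic (colimit D) := by
  intro U _ ι _ Uf hU hUf p
  haveI := preservesColimitsOfShape_cechHFunctor U hU ι Uf hUf (p + 1) Λ
  let hc := isColimitOfPreserves
    (sheafToPresheaf (Scheme.ProEt.topology X) AddCommGrpCat.{u + 1} ⋙ EtCech.cechHFunctor Uf (p + 1))
    (colimit.isColimit D)
  refine (IsZero.iff_id_eq_zero _).2 ?_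
  exact hc.hom_ext fun j => (h j U ι Uf hU hUf p).eq_of_src _ _

variable (S : ShortComplex (ProEtS.AbP X)) (hS : S.ShortExact)

include hS

theorem sections_surjective (h1 : IsCechAcyclic S.X₁) {V : X.ProEt} (hV : IsQcqsObj V) :
    Function.Surjective (S.g.hom.app (op V)).hom := by
  intro z
  haveI : LocallySmall.{u + 1} X.ProEt := ⟨fun _ _ => inferInstance⟩
  haveI := hS.mono_f
  haveI := hS.epi_g
  haveI : HasFiniteProducts (Over V) := hasFiniteProducts_of_has_binary_and_terminal
  have hloc : Presheaf.IsLocallySurjective (Scheme.ProEt.topology X) S.g.hom :=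
    (Sheaf.isLocallySurjective_iff_epi' AddCommGrpCat.{u + 1} S.g).2 inferInstance
  obtain ⟨n, W, g, hg, hcov, hW, -⟩ := hasFiniteRefinements_qcqs X V hV _ (hloc.imageSieve_mem (U := V) z)
  choose s hs using hg
  let Uf : ULift.{u + 1} (Fin n) → Over V := fun k => Over.mk (g k.down)
  have hsheaf : ∀ F : ProEtS.AbP X, Presieve.IsSheafFor (F.obj ⋙ forget AddCommGrpCat.{u + 1})
      (Presieve.ofArrows (fun i => (Uf i).left) fun i => (Uf i).hom) := by
    intro F
    rw [Presieve.isSheafFor_iff_generate]
    refine ((isSheaf_iff_isSheaf_of_type _ _).1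
      ((Presheaf.isSheaf_iff_isSheaf_forget (Scheme.ProEt.topology X) F.obj
        (forget AddCommGrpCat.{u + 1})).1 F.2)) _ ?_
    refine (Scheme.ProEt.topology X).superset_covering ?_ hcov
    refine Sieve.generate_le_iff _ _ |>.2 ?_
    rintro T a ⟨k⟩
    exact Sieve.le_generate _ _ _ (Presieve.ofArrows.mk (f := fun i => (Uf i).hom) ⟨k⟩)
  exact EtFound.CechSurjGen.exists_lift_of_isZero_cechH_one (Uf := Uf) S.f.hom S.g.hom
    (fun T => SiteBase.sheaf_app_injective S.f T.unop)
    (fun T y hy => (SiteBase.secExact_iff S T.unop).1 (hS.exact.map_of_mono_of_preservesKernel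
      (sheafToPresheaf (Scheme.ProEt.topology X) AddCommGrpCat.{u + 1} ⋙
        (evaluation X.ProEtᵒᵖ AddCommGrpCat.{u + 1}).obj T) inferInstance inferInstance) y hy)
    (fun T x => congrArg (fun t : S.X₁ ⟶ S.X₃ => (t.hom.app T).hom x) S.zero)
    (h1 V _ Uf hV (fun k => hW k.down) 0) (hsheaf _) (hsheaf _) z (fun k => s k.down) (fun k => hs k.down)

theorem isCechAcyclic_X₃ (h1 : IsCechAcyclic S.X₁) (h2 : IsCechAcyclic S.X₂) : IsCechAcyclic S.X₃ := by
  intro U _ ι _ Uf hU hUf p
  haveI : LocallySmall.{u + 1} X.ProEt := ⟨fun _ _ => inferInstance⟩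
  haveI := hS.mono_f
  haveI := hS.epi_g
  exact EtFound.CechSurjGen.isZero_cechH_quot S.f.hom S.g.hom
    (fun T => SiteBase.sheaf_app_injective S.f T.unop)
    (fun T y hy => (SiteBase.secExact_iff S T.unop).1 (hS.exact.map_of_mono_of_preservesKernel
      (sheafToPresheaf (Scheme.ProEt.topology X) AddCommGrpCat.{u + 1} ⋙
        (evaluation X.ProEtᵒᵖ AddCommGrpCat.{u + 1}).obj T) inferInstance inferInstance) y hy)
    (fun T x => congrArg (fun t : S.X₁ ⟶ S.X₃ => (t.hom.app T).hom x) S.zero) p
    (h1 U ι Uf hU hUf (p + 1)) (h2 U ι Uf hU hUf p)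
    (fun n i => sections_surjective S hS h1 (isQcqsObj_prod hU n _ fun k => hUf _))

omit hS

/-- Cartan's criterion. -/
theorem subsingleton_H_of_isCechAcyclic [CompactSpace X] [QuasiSeparatedSpace X] (n : ℕ)
    (G : ProEtS.AbP X) (hG : IsCechAcyclic G) : Subsingleton (ProEtS.HP X G (n + 1)) := by
  induction n generalizing G with
  | zero =>
    let S := ShortComplex.mk (Injective.ι G) (cokernel.π _) (cokernel.condition (Injective.ι G))
    have hS : S.ShortExact := { exact := ShortComplex.exact_of_g_is_cokernel _ (cokernelIsCokernel _) }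
    refine subsingleton_of_forall_eq 0 fun x => ?_
    obtain ⟨z, rfl⟩ := Ext.covariant_sequence_exact₁ _ hS x
      (haveI : Injective S.X₂ := inferInstanceAs (Injective (Injective.under G)); Ext.eq_zero_of_injective _)
      (rfl : 0 + 1 = 1)
    obtain ⟨φ, rfl⟩ := (Ext.mk₀_bijective _ _).2 z
    let adj := constantSheafAdj (Scheme.ProEt.topology X) AddCommGrpCat.{u + 1} ((ProEtColim13.topPIsTerminal X))
    obtain ⟨a, ha⟩ := sections_surjective S hS hG (isQcqsObj_of_iso (Iso.refl (ProEtS.topP X))
      ⟨‹CompactSpace X›, ‹QuasiSeparatedSpace X›⟩) (adj.homEquiv _ _ φ ⟨1⟩)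
    have hφ : (adj.homEquiv _ _).symm ((AddCommGrpCat.uliftZMultiplesAddEquiv _).symm a) ≫ S.g = φ := by
      apply (adj.homEquiv _ _).injective
      rw [Adjunction.homEquiv_naturality_right, Equiv.apply_symm_apply]
      apply (AddCommGrpCat.uliftZMultiplesAddEquiv _).injective
      refine Eq.trans ?_ ha
      exact congrArg (S.g.hom.app (op (ProEtS.topP X))) ((AddCommGrpCat.uliftZMultiplesAddEquiv _).apply_symm_apply a)
    rw [← hφ, ← Ext.mk₀_comp_mk₀, Ext.comp_assoc_of_second_deg_zero, hS.comp_extClass, Ext.comp_zero]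
  | succ n ih =>
    let S := ShortComplex.mk (Injective.ι G) (cokernel.π _) (cokernel.condition (Injective.ι G))
    have hS : S.ShortExact := { exact := ShortComplex.exact_of_g_is_cokernel _ (cokernelIsCokernel _) }
    haveI hI : Injective S.X₂ := inferInstanceAs (Injective (Injective.under G))
    refine subsingleton_of_forall_eq 0 fun x => ?_
    obtain ⟨z, rfl⟩ := Ext.covariant_sequence_exact₁ _ hS x (Ext.eq_zero_of_injective _) (rfl : (n + 1) + 1 = _)
    haveI := ih S.X₃ (isCechAcyclic_X₃ S hS hG (isCechAcyclic_of_injective S.X₂))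
    rw [Subsingleton.elim z 0, Ext.zero_comp]

/-- Pro-étale cohomology of a qcqs scheme commutes with filtered colimits. -/
theorem preservesColimitsOfShape_HF (X : Scheme.{u}) [CompactSpace X] [QuasiSeparatedSpace X] (n : ℕ)
    (Λ : Type (u + 1)) [SmallCategory Λ] [IsFiltered Λ] :
    PreservesColimitsOfShape Λ (ProEtS.HPF X n) where
  preservesColimit {D} := by
    let P := (constantSheaf (Scheme.ProEt.topology X) AddCommGrpCat.{u + 1}).obj (AddCommGrpCat.of (ULift ℤ))
    suffices h : PreservesColimit D ((extFunctor.{u + 1} n).obj (op P)) from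
      preservesColimit_of_natIso D (show (extFunctor.{u + 1} n).obj (op P) ≅ ProEtS.HPF X n from
        NatIso.ofComponents (fun F => Iso.refl _) fun f => rfl)
    refine (EtLC12.ExtColimGen.comm_all (P := P) (fun D => ?_) (fun D hD q => ?_) n D).preservesColimit
    · let hT := (ProEtColim13.topPIsTerminal X)
      haveI : PreservesColimitsOfShape Λ (sheafToPresheaf (Scheme.ProEt.topology X) AddCommGrpCat.{u + 1} ⋙
          (evaluation X.ProEtᵒᵖ AddCommGrpCat.{u + 1}).obj (op (ProEtS.topP X))) :=
        preservesColimitsOfShape_sections_qcqs_ab _ ⟨‹CompactSpace X›, ‹QuasiSeparatedSpace X›⟩ Λ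
      let hc := isColimitOfPreserves (sheafToPresheaf (Scheme.ProEt.topology X) AddCommGrpCat.{u + 1} ⋙
          (evaluation X.ProEtᵒᵖ AddCommGrpCat.{u + 1}).obj (op (ProEtS.topP X))) (colimit.isColimit D)
      constructor
      · intro x
        obtain ⟨i, t, ht⟩ := Concrete.isColimit_exists_rep _ hc (Sheaf.H.equiv₀ (colimit D) hT x)
        refine ⟨i, (Sheaf.H.equiv₀ (D.obj i) hT).symm t, ?_⟩
        refine (Sheaf.H.equiv₀_symm_naturality hT (colimit.ι D i) t).trans ?_
        exact ((Sheaf.H.equiv₀ (colimit D) hT).symm_apply_eq).2 ht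
      · intro i y hy
        have h0 : (colimit.ι D i).hom.app (op (ProEtS.topP X)) (Sheaf.H.equiv₀ (D.obj i) hT y) =
            (colimit.ι D i).hom.app (op (ProEtS.topP X)) 0 := by
          rw [map_zero]
          exact (Sheaf.H.equiv₀_naturality hT (colimit.ι D i) y).trans
            ((congrArg (Sheaf.H.equiv₀ (colimit D) hT) hy).trans (map_zero _))
        obtain ⟨j, u, v, huv⟩ := Concrete.isColimit_exists_of_rep_eq _ hc _ _ h0
        refine ⟨j, u, (Sheaf.H.equiv₀ (D.obj j) hT).injective ?_⟩
        rw [map_zero]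
        refine ((Sheaf.H.equiv₀_naturality hT (D.map u) y).symm.trans huv).trans ?_
        exact map_zero _
    · exact subsingleton_H_of_isCechAcyclic q _
        (isCechAcyclic_colimit D fun j => haveI := hD j; isCechAcyclic_of_injective _)

end Groth.Agent.ProEtColim13
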